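import Groth.Agent.AlgEquivCurveLib.Curve
import Groth.Agent.S15990
import Groth.Agent.HilbPtsLib.Smooth
import Groth.Agent.BlowUpLib.Cartier
import Groth.Agent.EffCartLib.Basic

/-!
# Points in a smooth chart of a curve
-/

set_option autoImplicit false
set_option linter.style.haveILetI false
set_option linter.unusedSectionVars false
set_option backward.isDefEq.respectTransparency false
set_option maxHeartbeats 1000000
universe u

open CategoryTheory CategoryTheory.Limits AlgebraicGeometry TopologicalSpace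
open CubeConsLib (pull pull_comp pull_cl cl cl_eq_iff IsoCls)
open EllLawLib (idCls pull_idCls isUnit_idCls exists_inv_rep)

noncomputable section

namespace CompRootLib

/-- A closed subscheme inside an open chart is effective Cartier as soon as it is so in the chart. -/
theorem effCartier_of_chart {Z W T : Scheme.{u}} (σ : T ⟶ Z) [IsClosedImmersion σ] (j : W ⟶ Z) [IsOpenImmersion j]
    (σ' : T ⟶ W) [IsClosedImmersion σ'] (h : σ' ≫ j = σ) (hσ' : BlowUp.IsEffCartierIdeal σ'.ker) :
    BlowUp.IsEffCartierIdeal σ.ker := by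
  refine BlowUpLib.isEffCartier_of_cover fun y => ?_
  by_cases hy : y ∈ Set.range j
  · refine ⟨W, j, inferInstance, hy, ?_⟩
    have sq : IsPullback (𝟙 T) σ' σ j := by
      refine ⟨⟨by rw [Category.id_comp, h]⟩, ⟨PullbackCone.IsLimit.mk _ (fun s => s.fst) (fun s => Category.comp_id _)
        (fun s => ?_) (fun s m h1 _ => ?_)⟩⟩
      · rw [← cancel_mono j, Category.assoc, h]; exact s.condition
      · exact (Category.comp_id m).symm.trans h1
    rw [SecDivLib.comap_ker_of_isPullback sq.flip.flip]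
    exact hσ'
  · let V : Z.Opens := ⟨(Set.range σ)ᶜ, σ.isClosedEmbedding.isClosed_range.isOpen_compl⟩
    have hyV : y ∈ V := by
      rintro ⟨t, rfl⟩
      exact hy ⟨σ' t, by rw [← Scheme.Hom.comp_apply, h]⟩
    refine ⟨V, V.ι, inferInstance, ⟨⟨y, hyV⟩, rfl⟩, ?_⟩
    have htop : σ.ker.comap V.ι = ⊤ := by
      rw [← Scheme.IdealSheafData.support_eq_bot_iff, eq_bot_iff]
      intro z hz
      rw [Scheme.IdealSheafData.support_comap] at hz
      change V.ι z ∈ σ.ker.support at hz
      rw [← SetLike.mem_coe, Scheme.Hom.support_ker, σ.isClosedEmbedding.isClosed_range.closure_eq] at hz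
      exact (z.2 hz).elim
    rw [htop]
    exact EffCartLib.isEffCartier_top

variable {k : Type u} [Field k] {Y : Scheme.{u}} [Y.Over (Spec (CommRingCat.of k))]
  [IsSeparated (Y ↘ Spec (CommRingCat.of k))]
  {T : Scheme.{u}} (e : T ⟶ Y) [IsOpenImmersion e]
  [SmoothOfRelativeDimension 1 (e ≫ (Y ↘ Spec (CommRingCat.of k)))]

theorem isClosedImmersion_pt (w : Spec (CommRingCat.of k) ⟶ Y) (hw : w ≫ (Y ↘ Spec (CommRingCat.of k)) = 𝟙 _) :
    IsClosedImmersion w :=
  EllLawLib.isClosedImmersion_sec (f := Y ↘ Spec (CommRingCat.of k)) w hw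

/-- A rational point of a smooth chart is an effective Cartier divisor. -/
theorem effCartier_pt (w : Spec (CommRingCat.of k) ⟶ T) (hw : w ≫ e ≫ (Y ↘ Spec (CommRingCat.of k)) = 𝟙 _) :
    BlowUp.IsEffCartierIdeal (w ≫ e).ker := by
  haveI := isClosedImmersion_pt (w ≫ e) (by rw [Category.assoc, hw])
  haveI : IsSeparated (e ≫ (Y ↘ Spec (CommRingCat.of k))) := inferInstance
  haveI : IsClosedImmersion w := EllLawLib.isClosedImmersion_sec (f := e ≫ (Y ↘ Spec (CommRingCat.of k))) w hw
  exact effCartier_of_chart (w ≫ e) e w rfl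
    (Groth.Agent.S15990.result (e ≫ (Y ↘ Spec (CommRingCat.of k))) w hw).1

/-- The difference of two points of a connected smooth chart moves along the chart. -/
theorem ae_pts [ConnectedSpace ↥T] [CompactSpace ↥T] (x o : Spec (CommRingCat.of k) ⟶ T)
    (hx : x ≫ e ≫ (Y ↘ Spec (CommRingCat.of k)) = 𝟙 _) (ho : o ≫ e ≫ (Y ↘ Spec (CommRingCat.of k)) = 𝟙 _)
    {b : IsoCls Y} (hb : idCls (x ≫ e).ker * b = 1) :
    AlgEquivCurveLib.AE k Y (idCls (o ≫ e).ker * b) := by
  obtain ⟨p, hp⟩ : ∃ p : Y ⟶ Spec (CommRingCat.of k), p = Y ↘ Spec (CommRingCat.of k) := ⟨_, rfl⟩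
  haveI : IsSeparated p := hp ▸ inferInstance
  haveI : SmoothOfRelativeDimension 1 (e ≫ p) := hp ▸ inferInstance
  subst hp
  let qT := e ≫ (Y ↘ Spec (CommRingCat.of k))
  haveI : Smooth qT := SmoothOfRelativeDimension.smooth 1 qT
  haveI : IsSeparated qT := inferInstance
  haveI : QuasiCompact qT := (quasiCompact_iff_compactSpace qT).mpr inferInstance
  let a := pullback.fst (Y ↘ Spec (CommRingCat.of k)) qT
  let π := pullback.snd (Y ↘ Spec (CommRingCat.of k)) qT
  let Δ : T ⟶ Pic13.prodK k Y qT := pullback.lift e (𝟙 T) (Category.id_comp _).symm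
  have hΔa : Δ ≫ a = e := pullback.lift_fst _ _ _
  have hΔπ : Δ ≫ π = 𝟙 T := pullback.lift_snd _ _ _
  haveI : IsSeparated π := MorphismProperty.pullback_snd (P := @IsSeparated) _ _ inferInstance
  haveI : IsClosedImmersion Δ := EllLawLib.isClosedImmersion_sec (f := π) Δ hΔπ
  let j : pullback qT qT ⟶ Pic13.prodK k Y qT :=
    pullback.map qT qT (Y ↘ Spec (CommRingCat.of k)) qT e (𝟙 T) (𝟙 _) (Category.comp_id _) (by simp)
  haveI : IsOpenImmersion j := inferInstance
  haveI := HilbPts.SC.smooth_snd qT qT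
  haveI : IsSeparated (pullback.snd qT qT) := MorphismProperty.pullback_snd (P := @IsSeparated) _ _ inferInstance
  haveI : IsClosedImmersion (pullback.diagonal qT) :=
    EllLawLib.isClosedImmersion_sec (f := pullback.snd qT qT) _ (pullback.diagonal_snd qT)
  have hj : pullback.diagonal qT ≫ j = Δ := by
    apply pullback.hom_ext
    · rw [Category.assoc, show j ≫ pullback.fst _ _ = pullback.fst qT qT ≫ e from pullback.lift_fst _ _ _,
        pullback.diagonal_fst_assoc]
      exact hΔa.symm
    · rw [Category.assoc, show j ≫ pullback.snd _ _ = pullback.snd qT qT ≫ 𝟙 T from pullback.lift_snd _ _ _,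
        Category.comp_id, pullback.diagonal_snd]
      exact hΔπ.symm
  have hΔ : BlowUp.IsEffCartierIdeal Δ.ker := effCartier_of_chart Δ j (pullback.diagonal qT) hj
    (Groth.Agent.S15990.result (pullback.snd qT qT) _ (pullback.diagonal_snd qT)).1
  obtain ⟨N, hN, hΔN⟩ := exists_inv_rep (IntMultLib.isInvertible_idealMod _ hΔ)
  have key : ∀ (w : Spec (CommRingCat.of k) ⟶ T) (hw : w ≫ qT = 𝟙 _),
      pull (Pic13.sliceAt k Y qT w hw) (idCls Δ.ker) = idCls (w ≫ e).ker := by
    intro w hw
    have hwa : Pic13.sliceAt k Y qT w hw ≫ a = 𝟙 Y := pullback.lift_fst _ _ _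
    have hwp : Pic13.sliceAt k Y qT w hw ≫ π = (Y ↘ Spec (CommRingCat.of k)) ≫ w := pullback.lift_snd _ _ _
    haveI : IsClosedImmersion (w ≫ e) := isClosedImmersion_pt _ (by rw [Category.assoc]; exact hw)
    have h1 : IsPullback (Pic13.sliceAt k Y qT w hw) (Y ↘ Spec (CommRingCat.of k)) π w := by
      refine IsPullback.of_right ?_ hwp (IsPullback.of_hasPullback (Y ↘ Spec (CommRingCat.of k)) _)
      rw [show Pic13.sliceAt k Y qT w hw ≫ pullback.fst (Y ↘ Spec (CommRingCat.of k)) qT = 𝟙 Y from hwa, hw]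
      exact IsPullback.of_horiz_isIso ⟨by simp⟩
    have h2 : IsPullback w (w ≫ e) Δ (Pic13.sliceAt k Y qT w hw) := by
      refine IsPullback.of_bot ?_ ?_ h1
      · rw [Category.assoc, show e ≫ (Y ↘ Spec (CommRingCat.of k)) = qT from rfl, hw, hΔπ]
        exact IsPullback.of_vert_isIso ⟨by simp⟩
      · apply pullback.hom_ext
        · rw [Category.assoc, Category.assoc, show Δ ≫ pullback.fst _ _ = e from hΔa]
          erw [hwa]
          rw [Category.comp_id]
        · rw [Category.assoc, Category.assoc, show Δ ≫ pullback.snd _ _ = 𝟙 T from hΔπ]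
          erw [hwp]
          rw [Category.comp_id, Category.assoc, ← Category.assoc e, ← Category.assoc w]
          rw [show w ≫ e ≫ (Y ↘ Spec (CommRingCat.of k)) = 𝟙 _ from hw, Category.id_comp]
    have hc := SecDivLib.comap_ker_of_isPullback h2
    exact (pull_idCls _ hΔ (hc ▸ effCartier_pt e w hw)).trans (congrArg idCls hc)
  have hoE := effCartier_pt e o ho
  have hxE := effCartier_pt e x hx
  have hs : ∀ (w : Spec (CommRingCat.of k) ⟶ T) (hw : w ≫ qT = 𝟙 _),
      pull (Pic13.sliceAt k Y qT w hw) (pull a (idCls (o ≫ e).ker) * CubeConsLib.cl N) * idCls (w ≫ e).ker =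
        idCls (o ≫ e).ker := by
    intro w hw
    rw [← key w hw, map_mul, pull_comp, mul_assoc, ← map_mul, mul_comm (CubeConsLib.cl N),
      show idCls Δ.ker * CubeConsLib.cl N = 1 from hΔN, map_one, mul_one,
      show Pic13.sliceAt k Y qT w hw ≫ a = 𝟙 Y from pullback.lift_fst _ _ _]
    exact congrArg CubeConsLib.cl rfl |>.trans (cl_eq_iff.2 ⟨(Scheme.Modules.pullbackId Y).app _⟩)
  refine ⟨T, qT, inferInstance, inferInstance, inferInstance,
    CohB1.tensorMod ((Scheme.Modules.pullback a).obj (ClSub.idealMod (o ≫ e).ker)) N,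
    HilbPolyLib.isInvertible_tensor (AmpleDevLib.isInvertible_pb _ (IntMultLib.isInvertible_idealMod _ hoE)) hN,
    x, o, hx, ho, ?_, ?_⟩
  · refine ((isUnit_idCls hxE).mul_left_injective ?_)
    refine (hs x hx).trans ?_
    show _ = idCls (o ≫ e).ker * b * idCls (x ≫ e).ker
    rw [mul_assoc, mul_comm b, hb, mul_one]
  · exact (isUnit_idCls hoE).mul_left_injective ((hs o ho).trans (one_mul _).symm)

end CompRootLib
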