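import Groth.Agent.MiscFlat6.TensorExtend
import Groth.Agent.AmpleFinGenLib.Divisor
import Groth.Agent.SecDivLib.Zero
import Groth.Agent.JacAlbLib.Abel
import Groth.Agent.DivDescLib.Local
import Groth.Agent.IntMultRegLib.Geom
import Groth.Agent.GrModLib6.Rel
import Groth.Agent.VertIntLib.Pic
import Groth.Agent.EllLawLib.Cls
import Groth.Agent.PureCycLib.Ideal

/-!
# Modules trivial away from finitely many regular points
-/

set_option autoImplicit false
set_option linter.style.haveILetI false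
set_option backward.isDefEq.respectTransparency false
set_option maxHeartbeats 1000000
universe u

open CategoryTheory CategoryTheory.Limits AlgebraicGeometry TopologicalSpace IsLocalRing
open AmpleLib AmpleThLib
open TwistLib (genSet)
open CubeConsLib (cl cl_tensor cl_eq_one_iff IsoCls)
open EllLawLib (idCls isUnit_idCls exists_inv_rep)

noncomputable section

namespace CompRootLib

variable {Y : Scheme.{u}}

/-- A section generating on a dense open subset of a reduced scheme is regular. -/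
theorem mono_unitHom [IsReduced Y] {M : Y.Modules} (hM : PicF.IsInvertible M) (t : Γ(M, ⊤))
    (hd : Dense (genSet hM t : Set Y)) : Mono (QCohLib.unitHom M t) := by
  refine GrModLib6.mono_of_app_injective _ fun U r r' h => ?_
  rw [QCohLib.unitHom_app, QCohLib.unitHom_app] at h
  let V : Y.Opens := U ⊓ genSet hM t
  have hg : GenOn M (res M (le_top : V ≤ ⊤) t) := TwistLib.genOn_of_genAt fun z hz =>
    (AmpleLib.genAt_res (le_top : V ≤ ⊤) t hz).2 hz.2
  have h' := congrArg (res M (inf_le_left : V ≤ U)) h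
  erw [AmpleLib.res_smul, AmpleLib.res_smul, AmpleLib.res_res] at h'
  have h'' := (hg V le_rfl).1 (a₁ := (Y.presheaf.map (homOfLE (inf_le_left : V ≤ U)).op).hom r)
    (a₂ := (Y.presheaf.map (homOfLE (inf_le_left : V ≤ U)).op).hom r')
    (by dsimp only; rw [AmpleLib.res_refl]; exact h')
  refine sub_eq_zero.1 ((basicOpen_eq_bot_iff (r - r')).1 (le_bot_iff.1 fun z hz => ?_))
  obtain ⟨z', hz', hz'g⟩ := hd.inter_open_nonempty _ (Y.basicOpen (r - r')).2 ⟨z, hz⟩
  have hz'V : z' ∈ Y.basicOpen ((Y.presheaf.map (homOfLE (inf_le_left : V ≤ U)).op).hom (r - r')) := by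
    rw [Scheme.basicOpen_res]
    exact ⟨⟨Y.basicOpen_le _ hz', hz'g⟩, hz'⟩
  rw [map_sub, sub_eq_zero.2 h'', Scheme.basicOpen_zero] at hz'V
  exact hz'V.elim

/-- Points of the support are those where a local coefficient vanishes. -/
theorem notMem_support_iff {M : Y.Modules} (hM : PicF.IsInvertible M) (s : Coh.structureModule Y ⟶ M) (x : Y) :
    x ∉ (PicF2.zeroScheme M s).support ↔ x ∈ genSet hM (s.app ⊤ (1 : Γ(Y, ⊤))) := by
  obtain ⟨U, e, hxU, he⟩ := TwistLib.exists_genOn hM x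
  obtain ⟨W, hW, hxW, hWU⟩ := exists_isAffineOpen_mem_and_subset hxU
  have hg := he.res (hWU : W ≤ U)
  obtain ⟨c, hc⟩ := (hg W le_rfl).2 (MeroLib.secOn s W)
  simp only [res_refl] at hc
  have hI := MeroLib.zeroScheme_ideal_of_genOn hM s (W := ⟨W, hW⟩) hg hc
  have hc' := hc
  rw [AmpleFinGenLib.secOn_eq_res] at hc'
  have h1 := SetLike.ext_iff.mp (mem_genSet_coeff hM (s.app ⊤ (1 : Γ(Y, ⊤))) hg hc') x
  have h2 := Set.ext_iff.mp (Scheme.IdealSheafData.coe_support_inter (PicF2.zeroScheme M s) ⟨W, hW⟩) x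
  simp only [hI, Set.mem_inter_iff, Scheme.zeroLocus_span, Scheme.mem_zeroLocus_iff, Set.mem_singleton_iff,
    forall_eq, SetLike.mem_coe, hxW, and_true] at h2
  simp only [Opens.mem_inf, hxW, and_true] at h1
  rw [h1]
  exact (not_congr h2).trans not_not

theorem stalkIdeal_eq_top {I : Y.IdealSheafData} {x : Y} (hx : x ∉ I.support) :
    IntMult.stalkIdeal I x = ⊤ := by
  by_contra h
  apply hx
  have := (IntMultRegLib.stalkPt_mem_support_iff I x ⟨maximalIdeal _, inferInstance⟩).2 (le_maximalIdeal h)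
  rwa [show EquidimLib.stalkPt x ⟨maximalIdeal (Y.presheaf.stalk x), inferInstance⟩ = x from
    Scheme.fromSpecStalk_closedPoint] at this

variable [IsLocallyNoetherian Y] {α : Type} [Fintype α] (P : α → Y) (hP : Function.Injective P)
  (I : α → Y.IdealSheafData) (hI : ∀ a, BlowUp.IsEffCartierIdeal (I a))
  (hsupp : ∀ a, ∀ y, y ∈ (I a).support ↔ y = P a)
  (hmax : ∀ a, IntMult.stalkIdeal (I a) (P a) = maximalIdeal (Y.presheaf.stalk (P a)))
  (hdvr : ∀ a, ∃ _ : IsDomain (Y.presheaf.stalk (P a)), IsDiscreteValuationRing (Y.presheaf.stalk (P a)))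

include hP hI hsupp hmax hdvr in
/-- An effective Cartier divisor supported at the points is a combination of them. -/
theorem exists_eq_prod_pts {Z : Y.IdealSheafData} (hZ : BlowUp.IsEffCartierIdeal Z)
    (hZs : ∀ y ∈ Z.support, ∃ a, y = P a) : ∃ e : α → ℕ, Z = ∏ a, I a ^ e a := by
  classical
  have hexp : ∀ a, ∃ e : ℕ, IntMult.stalkIdeal Z (P a) = maximalIdeal _ ^ e := fun a => by
    obtain ⟨_, _⟩ := hdvr a
    obtain ⟨t, ht, hZt⟩ := DivDescLib.exists_gen hZ (P a)
    obtain ⟨π, hπ⟩ := IsDiscreteValuationRing.exists_irreducible (Y.presheaf.stalk (P a))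
    obtain ⟨e, u, hu⟩ := IsDiscreteValuationRing.eq_unit_mul_pow_irreducible (nonZeroDivisors.ne_zero ht) hπ
    exact ⟨e, by rw [hZt, hu, Ideal.span_singleton_mul_left_unit u.isUnit, hπ.maximalIdeal_eq,
      Ideal.span_singleton_pow]⟩
  choose E hE using hexp
  refine ⟨E, DivDescLib.eq_of_stalk fun x => ?_⟩
  rw [SDivLib.stalkIdeal_prod]
  simp_rw [SDivLib.stalkIdeal_pow]
  by_cases hx : ∃ a, x = P a
  · obtain ⟨a, rfl⟩ := hx
    rw [Finset.prod_eq_single a, hmax a, hE a]
    · intro b _ hb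
      rw [stalkIdeal_eq_top (fun h => hb (hP ((hsupp b _).1 h)).symm), ← Ideal.one_eq_top, one_pow]
    · exact fun h => absurd (Finset.mem_univ a) h
  · rw [stalkIdeal_eq_top fun h => hx (hZs x h), ← Ideal.one_eq_top, Finset.prod_eq_one]
    intro b _
    rw [stalkIdeal_eq_top fun h => hx ⟨b, (hsupp b _).1 h⟩, ← Ideal.one_eq_top, one_pow]

include hI in
theorem idCls_prod_pow (e : α → ℕ) :
    BlowUp.IsEffCartierIdeal (∏ a, I a ^ e a) ∧ idCls (∏ a, I a ^ e a) = ∏ a, idCls (I a) ^ e a := by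
  classical
  have h1 : BlowUp.IsEffCartierIdeal (1 : Y.IdealSheafData) :=
    (Scheme.IdealSheafData.one_eq_top (X := Y)).symm ▸ EffCartLib.isEffCartier_top
  have e1 : idCls (1 : Y.IdealSheafData) = 1 := by
    refine (EllLawLib.isUnit_idCls h1).mul_left_injective ?_
    show idCls (1 : Y.IdealSheafData) * idCls 1 = 1 * idCls 1
    have := (JacAlbLib.idCls_prod ({0, 1} : Finset (Fin 2)) (fun _ => (1 : Y.IdealSheafData)) (fun _ => h1)
      (by simp)).2
    simp at this
    rw [← Scheme.IdealSheafData.one_eq_top, one_pow] at this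
    rw [one_mul, ← sq]
    exact this.symm
  have hpow : ∀ a (m : ℕ), BlowUp.IsEffCartierIdeal (I a ^ m) ∧ idCls (I a ^ m) = idCls (I a) ^ m := fun a m => by
    rcases Nat.eq_zero_or_pos m with rfl | hm
    · rw [pow_zero, pow_zero]; exact ⟨h1, e1⟩
    · have := JacAlbLib.idCls_prod (Finset.range m) (fun _ => I a) (fun _ => hI a) ⟨0, Finset.mem_range.2 hm⟩
      rwa [Finset.prod_const, Finset.prod_const, Finset.card_range] at this
  rcases isEmpty_or_nonempty α with hα | hα
  · rw [Finset.univ_eq_empty, Finset.prod_empty, Finset.prod_empty]; exact ⟨h1, e1⟩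
  · obtain ⟨h, h'⟩ := JacAlbLib.idCls_prod Finset.univ (fun a => I a ^ e a) (fun a => (hpow a (e a)).1)
      Finset.univ_nonempty
    exact ⟨h, h'.trans (Finset.prod_congr rfl fun a _ => (hpow a (e a)).2)⟩

variable [CompactSpace Y] [QuasiSeparatedSpace Y] [IsReduced Y]

include hP hI hsupp hmax hdvr in
/-- A module trivial away from the points is a combination of them. -/
theorem exists_decomp {L : Y.Modules} (hL : PicF.IsInvertible L) {U : Y.Opens} (hU : Dense (U : Set Y))
    (hUP : ∀ y, y ∈ U ↔ ∀ a, y ≠ P a) {s : Γ(L, U)} (hs : GenOn L s) :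
    ∃ a b : α → ℕ, cl L * ∏ i, idCls (I i) ^ a i = ∏ i, idCls (I i) ^ b i := by
  classical
  obtain ⟨hJ, hJcl⟩ := idCls_prod_pow I hI (fun _ => 1)
  set J : Y.IdealSheafData := ∏ a, I a ^ 1
  have hJs : ∀ y, y ∉ J.support ↔ y ∈ U := fun y => by
    rw [hUP]
    constructor
    · intro h a ha
      refine h ((?_ : (I a).support ≤ J.support) ((hsupp a y).2 ha))
      refine Scheme.IdealSheafData.support_antitone ?_
      rw [show J = ∏ a, I a ^ 1 from rfl, ← Finset.prod_erase_mul _ _ (Finset.mem_univ a), pow_one]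
      exact mul_le_of_le_one_left' le_top
    · intro h hy
      have h' : IntMult.stalkIdeal J y = ⊤ := by
        rw [show J = ∏ a, I a ^ 1 from rfl, SDivLib.stalkIdeal_prod, ← Ideal.one_eq_top]
        refine Finset.prod_eq_one fun a _ => ?_
        rw [pow_one, stalkIdeal_eq_top fun hh => h a ((hsupp a y).1 hh), Ideal.one_eq_top]
      exact (maximalIdeal.isMaximal (Y.presheaf.stalk y)).ne_top
        (top_le_iff.1 (h'.symm.trans_le (PureCycLib.stalkIdeal_le_maximal J hy)))
  obtain ⟨Q, hQ, hJQ⟩ := exists_inv_rep (IntMultLib.isInvertible_idealMod J hJ)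
  have hQJ : ClSub.IsInverseOf Q (ClSub.idealMod J) :=
    cl_eq_one_iff.1 ((cl_tensor _ _).trans ((mul_comm _ _).trans hJQ))
  obtain ⟨σ₀, hσ₀⟩ := SecDivLib.exists_secHom hQ hJ hQJ
  set t : Γ(Q, ⊤) := σ₀.app ⊤ (1 : Γ(Y, ⊤))
  have ht : genSet hQ t = U := by
    refine Opens.ext (Set.ext fun y => ?_)
    exact ((notMem_support_iff hQ σ₀ y).symm.trans (by rw [hσ₀]; exact hJs y))
  haveI : Coh.IsQCoh L := (CurvLib.isCoh_of_isInvertible hL).1
  obtain ⟨N, hN⟩ := MiscFlat6.exists_extend_tensor hQ L t (res L (ht.le) s)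
  obtain ⟨w, hw⟩ := hN N le_rfl
  have hM := HilbPolyLib.isInvertible_tensor hL (AmpleThLib.tensorPow_isInvertible hQ N)
  have hgw : GenOn (CohB1.tensorMod L (CohB1.tensorPow Q N)) (res _ (le_top : genSet hQ t ≤ ⊤) w) := by
    rw [hw]
    refine shT_genOn (hs.res ht.le) ?_
    rw [pS_res]
    exact pS_genOn (TwistLib.genSet_genOn hQ t) N
  have hUw : ∀ y ∈ U, y ∈ genSet hM w := fun y hy => VertIntLib.genSet_of_res hM w hgw (ht.ge hy)
  haveI := mono_unitHom hM w (hU.mono fun y hy => hUw y hy)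
  set σ := QCohLib.unitHom (CohB1.tensorMod L (CohB1.tensorPow Q N)) w
  have hσw : σ.app ⊤ (1 : Γ(Y, ⊤)) = w := by
    rw [QCohLib.unitHom_app, one_smul]
    exact congr($((CohB1.tensorMod L (CohB1.tensorPow Q N)).presheaf.map_id _) w)
  obtain ⟨E, hE⟩ := exists_eq_prod_pts P hP I hI hsupp hmax hdvr (AmpleFinGenLib.isEffCartier_zeroScheme hM σ)
    fun y hy => by
      by_contra h
      simp only [not_exists] at h
      refine (notMem_support_iff hM σ y).2 ?_ hy
      rw [hσw]
      exact hUw y ((hUP y).2 h)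
  obtain ⟨θ⟩ := AmpleFinGenLib.idealMod_tensor_iso hM σ
  have hθ : idCls (PicF2.zeroScheme _ σ) * (cl L * cl Q ^ N) = 1 := by
    rw [← VertIntLib.cl_tensorPow, ← cl_tensor, idCls, ← cl_tensor]; exact cl_eq_one_iff.2 ⟨θ⟩
  rw [hE, (idCls_prod_pow I hI E).2] at hθ
  refine ⟨E, fun _ => N, ?_⟩
  have hJ' : (∏ i, idCls (I i) ^ (fun _ : α => N) i) = idCls J ^ N := by
    rw [hJcl, ← Finset.prod_pow]
    simp
  rw [hJ']
  calc cl L * ∏ i, idCls (I i) ^ E i = cl L * (∏ i, idCls (I i) ^ E i) * (idCls J * cl Q) ^ N := by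
        rw [show idCls J * cl Q = 1 from hJQ, one_pow, mul_one]
    _ = idCls J ^ N * ((∏ i, idCls (I i) ^ E i) * (cl L * cl Q ^ N)) := by rw [mul_pow]; ac_rfl
    _ = idCls J ^ N := by rw [hθ, mul_one]

end CompRootLib
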