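import Groth.Agent.CompRootLib.Chart
import Groth.Agent.CompRootLib.Decomp
import Groth.Agent.GenusZeroLib.PointIdeal
import Groth.Agent.GenusZeroLib.RatData
import Groth.Agent.GenusZeroLib.Degrees
import Groth.Agent.HurwitzLib.SmoothCurve

/-!
# Degrees of points of a smooth chart
-/

set_option autoImplicit false
set_option linter.style.haveILetI false
set_option linter.unusedSectionVars false
set_option backward.isDefEq.respectTransparency false
set_option maxHeartbeats 1000000
universe u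

open CategoryTheory CategoryTheory.Limits AlgebraicGeometry TopologicalSpace IsLocalRing
open CubeConsLib (pull pull_cl cl cl_eq_iff cl_tensor IsoCls)
open EllLawLib (idCls pull_idCls isUnit_idCls)

noncomputable section

namespace CompRootLib

theorem idCls_top {Y : Scheme.{u}} : idCls (⊤ : Y.IdealSheafData) = 1 := by
  have h := EffCartLib.isEffCartier_top (X := Y)
  refine (isUnit_idCls h).mul_left_injective ?_
  show idCls (⊤ : Y.IdealSheafData) * idCls ⊤ = 1 * idCls ⊤
  have e := (JacAlbLib.idCls_prod ({0, 1} : Finset (Fin 2)) (fun _ => (⊤ : Y.IdealSheafData)) (fun _ => h)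
    (by simp)).2
  simp at e
  rw [← Scheme.IdealSheafData.one_eq_top, one_pow] at e
  rw [one_mul, ← Scheme.IdealSheafData.one_eq_top, ← sq]
  exact e.symm

section Curve

variable {k : Type u} [Field k] {Z : Scheme.{u}} [Z.Over (Spec (CommRingCat.of k))]
  [IsProper (Z ↘ Spec (CommRingCat.of k))] [IsIntegral Z] (hdim : topologicalKrullDim Z = 1)

variable (k) in
/-- `c` is the class of an invertible module of degree `d`. -/
def HasDeg (c : IsoCls Z) (d : ℤ) : Prop :=
  ∃ M : Z.Modules, PicF.IsInvertible M ∧ cl M = c ∧ Curv2.deg k Z M 1 = d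

theorem HasDeg.unique {c : IsoCls Z} {d d' : ℤ} (h : HasDeg k c d) (h' : HasDeg k c d') : d = d' := by
  obtain ⟨M, -, hMc, rfl⟩ := h
  obtain ⟨M', -, hMc', rfl⟩ := h'
  exact CurvLib.deg_congr (k := k) (cl_eq_iff.1 (hMc.trans hMc'.symm)).some 1

theorem HasDeg.one : HasDeg k (1 : IsoCls Z) 0 :=
  ⟨Coh.structureModule Z, CurvLib.isInvertible_structureModule, CubeConsLib.cl_eq_one_iff.2 ⟨Iso.refl _⟩,
    by simp [Curv2.deg]⟩

include hdim in
theorem HasDeg.mul {c c' : IsoCls Z} {d d' : ℤ} (h : HasDeg k c d) (h' : HasDeg k c' d') :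
    HasDeg k (c * c') (d + d') := by
  obtain ⟨M, hM, rfl, rfl⟩ := h
  obtain ⟨M', hM', rfl, rfl⟩ := h'
  exact ⟨_, HilbPolyLib.isInvertible_tensor hM hM', cl_tensor M M', GenusZeroLib.deg_tensor k hdim hM hM'⟩

include hdim in
theorem HasDeg.pow {c : IsoCls Z} {d : ℤ} (h : HasDeg k c d) : ∀ n : ℕ, HasDeg k (c ^ n) (n * d)
  | 0 => by simpa using HasDeg.one
  | n + 1 => by
    rw [pow_succ, Nat.cast_add, Nat.cast_one, add_mul, one_mul]
    exact (HasDeg.pow h n).mul hdim h

include hdim in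
theorem HasDeg.prod {α : Type*} (s : Finset α) (c : α → IsoCls Z) (d : α → ℤ) (h : ∀ a, HasDeg k (c a) (d a)) :
    HasDeg k (∏ a ∈ s, c a) (∑ a ∈ s, d a) := by
  induction s using Finset.cons_induction with
  | empty => simpa using HasDeg.one
  | cons a s ha ih => rw [Finset.prod_cons, Finset.sum_cons]; exact (h a).mul hdim ih

/-- The ideal of a rational point is the vanishing ideal of the point. -/
theorem ker_rational' (x : Spec (CommRingCat.of k) ⟶ Z) (hx : x ≫ (Z ↘ Spec (CommRingCat.of k)) = 𝟙 _) :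
    x.ker = GenusZeroLib.ptIdeal (GenusZeroLib.isClosed_rational x hx (closedPoint k)) := by
  haveI : AlgebraicGeometry.IsReduced (Spec (CommRingCat.of k)) := inferInstance
  haveI := isClosedImmersion_pt x hx
  rw [AlgSpRegLib.ker_eq_vanishingIdeal x, GenusZeroLib.ptIdeal]
  congr 1
  refine Closeds.ext ?_
  rw [Closeds.coe_closure]
  have hr : Set.range x = {x (closedPoint k)} := Set.eq_singleton_iff_unique_mem.mpr
    ⟨⟨_, rfl⟩, by rintro _ ⟨q, rfl⟩; exact congrArg _ (Subsingleton.elim (α := PrimeSpectrum k) _ _)⟩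
  rw [hr, (GenusZeroLib.isClosed_rational x hx _).closure_eq]
  rfl

variable {T : Scheme.{u}} (g : T ⟶ Z) [IsOpenImmersion g]
  [SmoothOfRelativeDimension 1 (g ≫ (Z ↘ Spec (CommRingCat.of k)))]

include hdim in
/-- The ideal of a point of a smooth chart of a curve has degree `-1`. -/
theorem hasDeg_pt (w : Spec (CommRingCat.of k) ⟶ T) (hw : w ≫ g ≫ (Z ↘ Spec (CommRingCat.of k)) = 𝟙 _)
    (hdvr : IsDiscreteValuationRing (Z.presheaf.stalk ((w ≫ g) (closedPoint k)))) :
    HasDeg k (idCls (w ≫ g).ker) (-1) := by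
  have hw' : (w ≫ g) ≫ (Z ↘ Spec (CommRingCat.of k)) = 𝟙 _ := by rw [Category.assoc]; exact hw
  have hP := GenusZeroLib.isClosed_rational (w ≫ g) hw' (closedPoint k)
  haveI := hdvr
  obtain ⟨M, ⟨eM⟩, hM, hd⟩ := GenusZeroLib.exists_idealMod_iso (k := k) hP hdim
  refine ⟨M, hM, ?_, hd.trans ?_⟩
  · rw [ker_rational' _ hw']; exact cl_eq_iff.2 ⟨eM⟩
  · rw [GenusZeroLib.finrank_residueField_rational (w ≫ g) hw' (closedPoint k)]
    rfl

end Curve

variable {k : Type u} [Field k] {Y Z T : Scheme.{u}} [Y.Over (Spec (CommRingCat.of k))]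
  [IsProper (Y ↘ Spec (CommRingCat.of k))] [Z.Over (Spec (CommRingCat.of k))]
  (c : Z ⟶ Y) [IsClosedImmersion c] (hc : c ≫ (Y ↘ Spec (CommRingCat.of k)) = Z ↘ Spec (CommRingCat.of k))
  [IsProper (Z ↘ Spec (CommRingCat.of k))] [IsIntegral Z] (hdim : topologicalKrullDim Z = 1)
  (e : T ⟶ Y) [IsOpenImmersion e] [SmoothOfRelativeDimension 1 (e ≫ (Y ↘ Spec (CommRingCat.of k)))]

/-- A chart inside the image of a closed immersion is a chart of the subscheme. -/
theorem exists_chart_lift [AlgebraicGeometry.IsReduced T] (h : Set.range e ⊆ Set.range c) :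
    ∃ g : T ⟶ Z, IsOpenImmersion g ∧ g ≫ c = e := by
  haveI : Surjective (pullback.snd c e) := ⟨fun t => by
    obtain ⟨z, hz⟩ := h ⟨t, rfl⟩
    obtain ⟨x, -, hx⟩ := Scheme.Pullback.exists_preimage_pullback (f := c) (g := e) z t hz
    exact ⟨x, hx⟩⟩
  haveI := isIso_of_isClosedImmersion_of_surjective (pullback.snd c e)
  refine ⟨inv (pullback.snd c e) ≫ pullback.fst c e, inferInstance, ?_⟩
  rw [Category.assoc, pullback.condition, IsIso.inv_hom_id_assoc]

include hdim hc in
/-- Degree of a point on the component containing it. -/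
theorem hasDeg_pull_pt [IsIntegral T] (hTdim : topologicalKrullDim T = 1) (g : T ⟶ Z) [IsOpenImmersion g]
    (hg : g ≫ c = e) (w : Spec (CommRingCat.of k) ⟶ T) (hw : w ≫ e ≫ (Y ↘ Spec (CommRingCat.of k)) = 𝟙 _) :
    HasDeg k (pull c (idCls (w ≫ e).ker)) (-1) := by
  have hgp : g ≫ (Z ↘ Spec (CommRingCat.of k)) = e ≫ (Y ↘ Spec (CommRingCat.of k)) := by
    rw [← hc, ← Category.assoc, hg]
  haveI : SmoothOfRelativeDimension 1 (g ≫ (Z ↘ Spec (CommRingCat.of k))) := by rw [hgp]; infer_instance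
  have hw' : w ≫ g ≫ (Z ↘ Spec (CommRingCat.of k)) = 𝟙 _ := by rw [hgp]; exact hw
  haveI := isClosedImmersion_pt (w ≫ e) (by rw [Category.assoc]; exact hw)
  haveI := isClosedImmersion_pt (w ≫ g) (by rw [Category.assoc]; exact hw')
  have sq : IsPullback (𝟙 _) (w ≫ g) (w ≫ e) c := by
    refine ⟨⟨by rw [Category.id_comp, Category.assoc, hg]⟩, ⟨PullbackCone.IsLimit.mk _ (fun s => s.fst)
      (fun s => Category.comp_id _) (fun s => ?_) (fun s m h1 _ => ?_)⟩⟩
    · rw [← cancel_mono c, Category.assoc, Category.assoc, hg]; exact s.condition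
    · exact (Category.comp_id m).symm.trans h1
  have hcm := SecDivLib.comap_ker_of_isPullback sq
  rw [pull_idCls c (effCartier_pt e w hw) (hcm ▸ effCartier_pt g w hw'), hcm]
  refine hasDeg_pt hdim g w hw' ?_
  haveI : Smooth (g ≫ (Z ↘ Spec (CommRingCat.of k))) := SmoothOfRelativeDimension.smooth 1 _
  letI : T.Over (Spec (CommRingCat.of k)) := ⟨g ≫ (Z ↘ Spec (CommRingCat.of k))⟩
  haveI : Smooth (T ↘ Spec (CommRingCat.of k)) := ‹Smooth (g ≫ _)›
  haveI : IsClosedImmersion w :=
    EllLawLib.isClosedImmersion_sec (f := g ≫ (Z ↘ Spec (CommRingCat.of k))) w hw'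
  have hcl : IsClosed ({w (closedPoint k)} : Set T) := by
    have hr : Set.range w = {w (closedPoint k)} := Set.eq_singleton_iff_unique_mem.mpr
      ⟨⟨_, rfl⟩, by rintro _ ⟨q, rfl⟩; exact congrArg _ (Subsingleton.elim (α := PrimeSpectrum k) _ _)⟩
    exact hr ▸ w.isClosedEmbedding.isClosed_range
  haveI := HurwitzLib.dvr_stalk_closed (k := k) hTdim hcl
  rw [Scheme.Hom.comp_apply]
  exact IsDiscreteValuationRing.RingEquivClass.isDiscreteValuationRing
    (asIso (g.stalkMap (w (closedPoint k)))).commRingCatIsoToRingEquiv.symm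

/-- A point outside a component has degree zero on it. -/
theorem hasDeg_pull_out (w : Spec (CommRingCat.of k) ⟶ T) (hw : w ≫ e ≫ (Y ↘ Spec (CommRingCat.of k)) = 𝟙 _)
    (h : (w ≫ e) (closedPoint k) ∉ Set.range c) : HasDeg k (pull c (idCls (w ≫ e).ker)) 0 := by
  haveI := isClosedImmersion_pt (w ≫ e) (by rw [Category.assoc]; exact hw)
  have htop : (w ≫ e).ker.comap c = ⊤ := by
    rw [← Scheme.IdealSheafData.support_eq_bot_iff, eq_bot_iff]
    intro z hz
    rw [Scheme.IdealSheafData.support_comap] at hz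
    change c z ∈ (w ≫ e).ker.support at hz
    rw [← SetLike.mem_coe, Scheme.Hom.support_ker, (w ≫ e).isClosedEmbedding.isClosed_range.closure_eq] at hz
    obtain ⟨q, hq⟩ := hz
    obtain rfl : q = closedPoint k := Subsingleton.elim (α := PrimeSpectrum k) _ _
    exact (h ⟨z, hq.symm⟩).elim
  rw [pull_idCls c (effCartier_pt e w hw) (htop ▸ EffCartLib.isEffCartier_top), htop, idCls_top]
  exact HasDeg.one

end CompRootLib
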