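import Groth.Agent.CompRootLib.Deg
import Groth.Agent.RootAlgzLib.Main
import Groth.Agent.FinPicLib.SemiLocal
import Groth.Agent.FinPicLib.Topo
import Groth.Agent.CurveAmpLib.FiniteSet
import Groth.Agent.VarDimLib.Basic
import Groth.Agent.S1170

/-!
# Degree zero on every component of a reduced curve: roots
-/

set_option autoImplicit false
set_option linter.style.haveILetI false
set_option backward.isDefEq.respectTransparency false
set_option maxHeartbeats 2000000
universe u

open CategoryTheory CategoryTheory.Limits AlgebraicGeometry TopologicalSpace IsLocalRing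
open CubeConsLib (pull pull_cl cl cl_eq_iff cl_tensor cl_eq_one_iff IsoCls)
open EllLawLib (idCls isUnit_idCls exists_inv_rep)

noncomputable section

namespace CompRootLib

/-- Classes of the Picard group as isomorphism classes. -/
def toIso (Y : Scheme.{u}) [PicGrp.Law Y] : PicLoc.PicSet Y →* IsoCls Y where
  toFun c := cl (PicGrp.exists_eq_cls c).choose
  map_one' := by
    obtain ⟨hM, h⟩ := (PicGrp.exists_eq_cls (1 : PicLoc.PicSet Y)).choose_spec
    exact cl_eq_one_iff.2 ((PicGrp.cls_eq_one_iff hM).1 h.symm)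
  map_mul' a b := by
    obtain ⟨hA, ha⟩ := (PicGrp.exists_eq_cls a).choose_spec
    obtain ⟨hB, hb⟩ := (PicGrp.exists_eq_cls b).choose_spec
    obtain ⟨hAB, hab⟩ := (PicGrp.exists_eq_cls (a * b)).choose_spec
    rw [← cl_tensor, cl_eq_iff, ← PicGrp.cls_eq_cls_iff hAB (HilbPolyLib.isInvertible_tensor hA hB)]
    apply Subtype.ext
    rw [← hab, PicGrp.cls_val, ← PicGrp.cls_mul_cls_val hA hB, ← ha, ← hb]

theorem toIso_cls {Y : Scheme.{u}} [PicGrp.Law Y] {M : Y.Modules} (hM : PicF.IsInvertible M) :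
    toIso Y (PicGrp.cls M hM) = cl M := by
  obtain ⟨hM', h⟩ := (PicGrp.exists_eq_cls (PicGrp.cls M hM)).choose_spec
  exact cl_eq_iff.2 ((PicGrp.cls_eq_cls_iff hM' hM).1 h.symm)

theorem toIso_injective {Y : Scheme.{u}} [PicGrp.Law Y] : Function.Injective (toIso Y) := fun a b h => by
  obtain ⟨A, hA, rfl⟩ := PicGrp.exists_eq_cls a
  obtain ⟨B, hB, rfl⟩ := PicGrp.exists_eq_cls b
  rw [toIso_cls, toIso_cls] at h
  exact (PicGrp.cls_eq_cls_iff hA hB).2 (cl_eq_iff.1 h)

theorem prod_zpow_eq {G : Type*} [CommGroup G] {α : Type*} (x : G) (s : Finset α) (f : α → ℤ) :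
    ∏ a ∈ s, x ^ f a = x ^ ∑ a ∈ s, f a := by
  induction s using Finset.cons_induction with
  | empty => simp
  | cons a s ha ih => rw [Finset.prod_cons, Finset.sum_cons, ih, zpow_add]

variable {k : Type u} [Field k] [IsAlgClosed k] {Y : Scheme.{u}} [Y.Over (Spec (CommRingCat.of k))]
  [IsProper (Y ↘ Spec (CommRingCat.of k))] [AlgebraicGeometry.IsReduced Y] [PicGrp.Law Y]
  {n : ℕ} {Z : Fin n → Scheme.{u}} [∀ i, IsIntegral (Z i)] [∀ i, (Z i).Over (Spec (CommRingCat.of k))]
  [∀ i, IsProper (Z i ↘ Spec (CommRingCat.of k))]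
  (c : ∀ i, Z i ⟶ Y) [∀ i, IsClosedImmersion (c i)]
  (hc : ∀ i, c i ≫ (Y ↘ Spec (CommRingCat.of k)) = Z i ↘ Spec (CommRingCat.of k))
  (hdimY : topologicalKrullDim Y ≤ 1) (hdim : ∀ i, topologicalKrullDim (Z i) = 1)
  (hcov : ∀ y : Y, ∃ i, y ∈ Set.range (c i))
  (hgen : ∀ i j, (c i) (genericPoint (Z i)) ∈ Set.range (c j) → i = j)

include hc hdimY hdim hcov hgen in
/-- **An invertible module of degree zero on every component of a proper reduced curve has roots.** -/
theorem exists_root_curve {L : Y.Modules} (hL : PicF.IsInvertible L)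
    (hdeg : ∀ i, Curv2.deg k (Z i) ((Scheme.Modules.pullback (c i)).obj L) 1 = 0)
    (q : ℕ) (hq : (q : k) ≠ 0) : ∃ r : PicLoc.PicSet Y, r ^ q = PicGrp.cls L hL := by
  classical
  let p := Y ↘ Spec (CommRingCat.of k)
  haveI : LocallyOfFinitePresentation p := LocallyOfFinitePresentation.iff_locallyOfFiniteType.2 inferInstance
  haveI : IsLocallyNoetherian Y := LocallyOfFiniteType.isLocallyNoetherian p
  haveI : CompactSpace Y := QuasiCompact.compactSpace_of_compactSpace p
  haveI : IsNoetherian Y := ⟨⟩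
  haveI : Y.IsSeparated := ⟨by
    rw [← terminal.comp_from p]
    infer_instance⟩
  haveI : JacobsonSpace ↥Y := LocallyOfFiniteType.jacobsonSpace p
  -- the smooth charts
  let O : Fin n → Y.Opens := fun i =>
    ⟨(⋃ j ∈ (Finset.univ.erase i : Finset (Fin n)), Set.range (c j))ᶜ,
      (isClosed_biUnion_finset fun j _ => (c j).isClosedEmbedding.isClosed_range).isOpen_compl⟩ ⊓ p.smoothLocus
  have hOsub : ∀ i, (O i : Set Y) ⊆ Set.range (c i) := fun i y hy => by
    obtain ⟨j, hj⟩ := hcov y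
    rcases eq_or_ne j i with rfl | hne
    · exact hj
    · exact absurd (Set.mem_biUnion (Finset.mem_coe.2 (Finset.mem_erase.2 ⟨hne, Finset.mem_univ j⟩)) hj) hy.1
  have hηO : ∀ i, c i (genericPoint (Z i)) ∈ O i := fun i => by
    have h1 : c i (genericPoint (Z i)) ∈ (⋃ j ∈ (Finset.univ.erase i : Finset (Fin n)), Set.range (c j))ᶜ := by
      simp only [Set.mem_compl_iff, Set.mem_iUnion₂, Finset.mem_erase, not_exists]
      rintro j ⟨hji, -⟩ hj
      exact hji (hgen i j hj).symm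
    obtain ⟨y, hy1, hy2⟩ := (Scheme.Hom.dense_smoothLocus_of_perfectField p).inter_open_nonempty _
      (isClosed_biUnion_finset fun j _ => (c j).isClosedEmbedding.isClosed_range).isOpen_compl ⟨_, h1⟩
    obtain ⟨z, hz⟩ := hOsub i (show y ∈ O i from ⟨hy1, hy2⟩)
    exact ((genericPoint_spec (Z i)).specializes trivial).map (c i).continuous |>.mem_open (O i).2
      (show c i z ∈ O i by rw [hz]; exact ⟨hy1, hy2⟩)
  let e : ∀ i, (O i : Scheme.{u}) ⟶ Y := fun i => (O i).ι
  have hlift : ∀ i, ∃ g : (O i : Scheme.{u}) ⟶ Z i, IsOpenImmersion g ∧ g ≫ c i = e i := fun i =>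
    exists_chart_lift (c i) (e i) (by rw [Scheme.Opens.range_ι]; exact hOsub i)
  choose g hgo hg using hlift
  haveI : ∀ i, Nonempty (O i : Scheme.{u}) := fun i => ⟨⟨_, hηO i⟩⟩
  haveI hOint : ∀ i, IsIntegral (O i : Scheme.{u}) := fun i => by haveI := hgo i; exact isIntegral_of_isOpenImmersion (g i)
  have hOdim : ∀ i, topologicalKrullDim (O i : Scheme.{u}) = 1 := fun i => by
    haveI := hgo i
    have e1 := (g i).isoOpensRange.hom.homeomorph.isHomeomorph.topologicalKrullDim_eq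
    rw [e1, ← hdim i]
    refine VarDimLib.dim_open_eq (Z i ↘ Spec (CommRingCat.of k)) (g i).opensRange ?_
    exact ⟨g i ⟨_, hηO i⟩, ⟨_, rfl⟩⟩
  haveI hOs : ∀ i, Smooth (e i ≫ p) := fun i => by
    rw [← Scheme.Hom.smoothLocus_eq_top_iff, ← Scheme.Hom.preimage_smoothLocus_eq, eq_top_iff]
    exact fun z _ => z.2.2
  haveI hO1 : ∀ i, SmoothOfRelativeDimension 1 (e i ≫ p) := fun i =>
    Groth.Agent.S1170.smoothOfRelativeDimension_one k _ (hOdim i)
  haveI : ∀ i, CompactSpace ↥(O i : Scheme.{u}) := fun i =>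
    isCompact_iff_compactSpace.1 (NoetherianSpace.isCompact (O i : Set Y))
  -- closed points
  have hpt : ∀ i (y : Y), IsClosed ({y} : Set Y) → y ∈ O i →
      ∃ w : Spec (CommRingCat.of k) ⟶ (O i : Scheme.{u}), w ≫ e i ≫ p = 𝟙 _ ∧ (w ≫ e i) (closedPoint k) = y := by
    intro i y hy hyO
    have hz : IsClosed ({(⟨y, hyO⟩ : (O i : Scheme.{u}))} : Set (O i : Scheme.{u})) := by
      have : ({(⟨y, hyO⟩ : (O i : Scheme.{u}))} : Set (O i : Scheme.{u})) = (e i) ⁻¹' {y} := by
        ext z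
        exact ⟨fun h => congrArg Subtype.val h, fun h => Subtype.ext h⟩
      rw [this]
      exact hy.preimage (e i).continuous
    exact ⟨pointOfClosedPoint (e i ≫ p) _ hz, pointOfClosedPoint_comp _ _ hz, by
      rw [Scheme.Hom.comp_apply, pointOfClosedPoint_apply _ _ hz]; rfl⟩
  have hbase : ∀ i, ∃ y : Y, IsClosed ({y} : Set Y) ∧ y ∈ O i := fun i => by
    obtain ⟨y, hy1, hy2⟩ := nonempty_inter_closedPoints (Z := (O i : Set Y)) ⟨_, hηO i⟩ (O i).2.isLocallyClosed
    exact ⟨y, hy2, hy1⟩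
  choose y₀ hy₀ hy₀O using hbase
  choose w₀ hw₀ hw₀p using fun i => hpt i (y₀ i) (hy₀ i) (hy₀O i)
  -- the bad set
  let B : Set Y := (⋃ i, (O i : Set Y))ᶜ
  have hgenO : ∀ y : Y, FinPicLib.IsGen y → ∃ i, y ∈ O i := fun y hy => by
    obtain ⟨i, z, rfl⟩ := hcov y
    exact ⟨i, hy _ (((genericPoint_spec (Z i)).specializes trivial).map (c i).continuous) ▸ hηO i⟩
  have hBfin : B.Finite := FinPicLib.finite_of_closed hdimY
    (isOpen_iUnion fun i => (O i).2).isClosed_compl fun y hy h => hy (Set.mem_iUnion.2 (hgenO y h))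
  have hclosed : ∀ y : Y, ¬ FinPicLib.IsGen y → IsClosed ({y} : Set Y) := fun y hy => by
    rw [← closure_eq_iff_isClosed]
    refine Set.Subset.antisymm (fun z hz => ?_) subset_closure
    exact (FinPicLib.eq_of_specializes_of_not_isGen hdimY hy (specializes_iff_mem_closure.2 hz)).symm
  let G : Set Y := B ∪ Set.range y₀
  have hGfin : G.Finite := hBfin.union (Set.finite_range _)
  obtain ⟨V, hV, hGV⟩ := CurveAmpLib.exists_affine_of_finite hdimY G hGfin
  have hGcl : ∀ y ∈ G, IsClosed ({y} : Set Y) := by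
    rintro y (hy | ⟨i, rfl⟩)
    · exact hclosed y fun h => hy (Set.mem_iUnion.2 (hgenO y h))
    · exact hy₀ i
  obtain ⟨U, s, hGU, -, hs⟩ := FinPicLib.exists_genOn_nhd hL ⟨V, hV⟩ hGfin hGV fun a ha b _ hab =>
    ((hGcl a ha).closure_eq ▸ specializes_iff_mem_closure.1 hab : b ∈ ({a} : Set Y)).symm
  have hηU : ∀ i, c i (genericPoint (Z i)) ∈ U := fun i => by
    obtain ⟨z, hz⟩ := hOsub i (hy₀O i)
    exact ((genericPoint_spec (Z i)).specializes trivial).map (c i).continuous |>.mem_open U.2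
      (show c i z ∈ U by rw [hz]; exact hGU (Or.inr ⟨i, rfl⟩))
  have hgenU : ∀ y : Y, FinPicLib.IsGen y → y ∈ U := fun y hy => by
    obtain ⟨i, z, rfl⟩ := hcov y
    exact hy _ (((genericPoint_spec (Z i)).specializes trivial).map (c i).continuous) ▸ hηU i
  have hFfin : ((U : Set Y)ᶜ).Finite :=
    FinPicLib.finite_of_closed hdimY U.2.isClosed_compl fun y hy h => hy (hgenU y h)
  have hUd : Dense (U : Set Y) := by
    rw [dense_iff_closure_eq, Set.eq_univ_iff_forall]
    intro y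
    obtain ⟨η, hη, hηy⟩ := FinPicLib.exists_isGen_specializes y
    exact hηy.mem_closed isClosed_closure (subset_closure (hgenU η hη))
  -- the points outside `U`
  haveI := hFfin.fintype
  let α := Fin (Fintype.card ↥((U : Set Y)ᶜ))
  let P : α → Y := fun a => ((Fintype.equivFin ↥((U : Set Y)ᶜ)).symm a).1
  have hP : Function.Injective P := Subtype.val_injective.comp (Equiv.injective _)
  have hPU : ∀ y, y ∈ U ↔ ∀ a, y ≠ P a := fun y =>
    ⟨fun hy a ha => ((Fintype.equivFin ↥((U : Set Y)ᶜ)).symm a).2 (show P a ∈ U from ha ▸ hy), fun h => by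
      by_contra hy
      exact h (Fintype.equivFin _ ⟨y, hy⟩) (congrArg Subtype.val ((Fintype.equivFin _).symm_apply_apply ⟨y, hy⟩)).symm⟩
  have hPO : ∀ a, ∃ i, P a ∈ O i := fun a => by
    by_contra h
    exact ((Fintype.equivFin ↥((U : Set Y)ᶜ)).symm a).2
      (hGU (Or.inl (show P a ∈ B from fun hh => h (Set.mem_iUnion.1 hh))))
  choose ι hι using hPO
  have hPcl : ∀ a, IsClosed ({P a} : Set Y) := fun a =>
    hclosed _ fun h => ((Fintype.equivFin ↥((U : Set Y)ᶜ)).symm a).2 (hgenU _ h)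
  choose w hw hwp using fun a => hpt (ι a) (P a) (hPcl a) (hι a)
  let I : α → Y.IdealSheafData := fun a => (w a ≫ e (ι a)).ker
  have hI : ∀ a, BlowUp.IsEffCartierIdeal (I a) := fun a => effCartier_pt (e (ι a)) (w a) (hw a)
  haveI hci : ∀ a, IsClosedImmersion (w a ≫ e (ι a)) := fun a =>
    isClosedImmersion_pt _ (by rw [Category.assoc]; exact hw a)
  have hsupp : ∀ a y, y ∈ (I a).support ↔ y = P a := fun a y => by
    rw [← SetLike.mem_coe, Scheme.Hom.support_ker, (w a ≫ e (ι a)).isClosedEmbedding.isClosed_range.closure_eq,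
      ← hwp a]
    exact ⟨fun ⟨q, hq⟩ => hq ▸ congrArg _ (Subsingleton.elim (α := PrimeSpectrum k) q _), fun h => h ▸ ⟨_, rfl⟩⟩
  have hdvr : ∀ a, ∃ _ : IsDomain (Y.presheaf.stalk (P a)), IsDiscreteValuationRing (Y.presheaf.stalk (P a)) := by
    intro a
    letI : (O (ι a) : Scheme.{u}).Over (Spec (CommRingCat.of k)) := ⟨e (ι a) ≫ p⟩
    haveI : Smooth ((O (ι a) : Scheme.{u}) ↘ Spec (CommRingCat.of k)) := hOs (ι a)
    haveI : IsClosedImmersion (w a) :=
      EllLawLib.isClosedImmersion_sec (f := e (ι a) ≫ p) (w a) (hw a)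
    have hcl : IsClosed ({w a (closedPoint k)} : Set (O (ι a) : Scheme.{u})) := by
      have hr : Set.range (w a) = {w a (closedPoint k)} := Set.eq_singleton_iff_unique_mem.mpr
        ⟨⟨_, rfl⟩, by rintro _ ⟨q, rfl⟩; exact congrArg _ (Subsingleton.elim (α := PrimeSpectrum k) _ _)⟩
      exact hr ▸ (w a).isClosedEmbedding.isClosed_range
    haveI := HurwitzLib.dvr_stalk_closed (k := k) (hOdim (ι a)) hcl
    rw [← hwp a, Scheme.Hom.comp_apply]
    let φ := (asIso ((e (ι a)).stalkMap (w a (closedPoint k)))).commRingCatIsoToRingEquiv.symm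
    haveI := φ.symm.toMulEquiv.isDomain
    exact ⟨inferInstance, IsDiscreteValuationRing.RingEquivClass.isDiscreteValuationRing φ⟩
  have hmax : ∀ a, IntMult.stalkIdeal (I a) (P a) = maximalIdeal (Y.presheaf.stalk (P a)) := fun a => by
    haveI : IsIntegral (I a).subscheme := by
      haveI : Nonempty (I a).subscheme := ⟨(w a ≫ e (ι a)).toImage (closedPoint k)⟩
      exact isIntegral_of_isOpenImmersion (inv (w a ≫ e (ι a)).toImage)
    obtain ⟨_, _⟩ := hdvr a
    exact SDivLib.stalkIdeal_eq_maximal (hI a) ((hsupp a _).2 rfl) (le_of_eq (IsDiscreteValuationRing.ringKrullDim_eq_one _))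
  obtain ⟨A, A', hAA⟩ := exists_decomp P hP I hI hsupp hmax hdvr hL hUd hPU hs
  -- degrees
  have hsum : ∀ i, (∑ a ∈ Finset.univ.filter (fun a => ι a = i), ((A' a : ℤ) - A a)) = 0 := fun i => by
    let d : α → ℤ := fun a => if ι a = i then -1 else 0
    have hd : ∀ a, HasDeg k (pull (c i) (idCls (I a))) (d a) := fun a => by
      by_cases h : ι a = i
      · rw [show d a = -1 from if_pos h]
        obtain rfl := h
        haveI := hgo (ι a)
        exact hasDeg_pull_pt (c (ι a)) (hc _) (hdim _) (e (ι a)) (hOdim _) (g (ι a)) (hg _) (w a) (hw a)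
      · rw [show d a = 0 from if_neg h]
        refine hasDeg_pull_out (c i) (e (ι a)) (w a) (hw a) ?_
        rw [hwp a]
        exact fun hh => (hι a).1 (Set.mem_biUnion (Finset.mem_coe.2 (Finset.mem_erase.2
          ⟨fun hi => h hi.symm, Finset.mem_univ i⟩)) hh)
    have hL0 : HasDeg k (pull (c i) (cl L)) 0 :=
      ⟨_, AmpleDevLib.isInvertible_pb (c i) hL, (pull_cl _ _).symm, hdeg i⟩
    have h1 : HasDeg k (pull (c i) (cl L * ∏ a, idCls (I a) ^ A a)) (0 + ∑ a, (A a : ℤ) * d a) := by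
      rw [map_mul, map_prod]
      simp only [map_pow]
      exact hL0.mul (hdim i) (HasDeg.prod (hdim i) _ _ _ fun a => (hd a).pow (hdim i) (A a))
    have h2 : HasDeg k (pull (c i) (∏ a, idCls (I a) ^ A' a)) (∑ a, (A' a : ℤ) * d a) := by
      rw [map_prod]
      simp only [map_pow]
      exact HasDeg.prod (hdim i) _ _ _ fun a => (hd a).pow (hdim i) (A' a)
    have h := (hAA ▸ h1).unique h2
    simp only [d, mul_ite, mul_neg, mul_one, mul_zero, zero_add, ← Finset.sum_filter, Finset.sum_neg_distrib,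
      neg_inj] at h
    rw [Finset.sum_sub_distrib, h, sub_self]
  -- roots of differences of points
  let pc : α → PicLoc.PicSet Y := fun a => PicGrp.cls _ (IntMultLib.isInvertible_idealMod _ (hI a))
  let oc : Fin n → PicLoc.PicSet Y := fun i =>
    PicGrp.cls _ (IntMultLib.isInvertible_idealMod _ (effCartier_pt (e i) (w₀ i) (hw₀ i)))
  have hLeq : PicGrp.cls L hL = ∏ a, pc a ^ ((A' a : ℤ) - A a) := by
    have h : PicGrp.cls L hL * ∏ a, pc a ^ A a = ∏ a, pc a ^ A' a := toIso_injective (by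
      simp only [map_mul, map_prod, map_pow, pc, toIso_cls]
      exact hAA)
    simp only [zpow_sub, zpow_natCast, ← div_eq_mul_inv, Finset.prod_div_distrib]
    exact eq_div_of_mul_eq' h
  have hroot : ∀ a, pc a / oc (ι a) ∈ (powMonoidHom q : PicLoc.PicSet Y →* PicLoc.PicSet Y).range := fun a => by
    obtain ⟨N, hN, hoN⟩ := exists_inv_rep (IntMultLib.isInvertible_idealMod _
      (effCartier_pt (e (ι a)) (w₀ (ι a)) (hw₀ (ι a))))
    have hae : AlgEquivCurveLib.AE k Y (idCls (I a) * cl N) :=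
      ae_pts (e (ι a)) (w₀ (ι a)) (w a) (hw₀ _) (hw a) hoN
    rw [idCls, ← cl_tensor, AlgEquivCurveLib.ae_iff] at hae
    obtain ⟨Q, hQ, -, ⟨eQ⟩⟩ := RootAlgzLib.exists_root_algEquiv hq hae
    refine ⟨PicGrp.cls Q hQ, ?_⟩
    show PicGrp.cls Q hQ ^ q = _
    refine toIso_injective ((IsUnit.mul_left_inj (EllLawLib.isUnit_cl
      (IntMultLib.isInvertible_idealMod _ (effCartier_pt (e (ι a)) (w₀ (ι a)) (hw₀ (ι a)))))).1 ?_)
    rw [map_pow, toIso_cls, ← VertIntLib.cl_tensorPow, cl_eq_iff.2 ⟨eQ⟩, ← toIso_cls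
      (IntMultLib.isInvertible_idealMod _ (effCartier_pt (e (ι a)) (w₀ (ι a)) (hw₀ (ι a)))), ← map_mul (toIso Y) (pc a / oc (ι a)),
      div_mul_cancel, toIso_cls, cl_tensor, mul_assoc, mul_comm (cl N), hoN, mul_one]
    exact (toIso_cls _).symm
  suffices hmem : PicGrp.cls L hL ∈ (powMonoidHom q : PicLoc.PicSet Y →* PicLoc.PicSet Y).range from hmem
  have hone : (∏ a, oc (ι a) ^ ((A' a : ℤ) - A a)) = 1 := by
    rw [← Finset.prod_fiberwise Finset.univ ι]
    refine Finset.prod_eq_one fun i _ => ?_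
    rw [Finset.prod_congr rfl (g := fun a => oc i ^ ((A' a : ℤ) - A a)) fun a ha => by
      rw [(Finset.mem_filter.1 ha).2], prod_zpow_eq, hsum i, zpow_zero]
  rw [hLeq, ← div_one (∏ a, pc a ^ ((A' a : ℤ) - A a)), ← hone, ← Finset.prod_div_distrib]
  simp only [← div_zpow]
  exact Subgroup.prod_mem _ fun a _ => Subgroup.zpow_mem _ (hroot a) _

end CompRootLib
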